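import Groth.Prelude.Def_GrMap2
import Groth.Prelude.Def_AssocGrMod
import Mathlib.RingTheory.AdicCompletion.Basic
import Mathlib.Tactic

/-! Successive approximation for associated graded rings and modules. -/

set_option autoImplicit false
set_option linter.style.haveILetI false

universe u v

namespace Groth.Agent.H24AdicGr

open AssocGr

/-- Series with terms in shrinking powers of `I` converge. -/
theorem exists_limit {A : Type u} [CommRing A] (I : Ideal A) [IsPrecomplete I A] (d : ℕ) (a : ℕ → A)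
    (ha : ∀ n, a n ∈ I ^ (n - d)) : ∃ L : A, ∀ n, L - ∑ l ∈ Finset.range n, a l ∈ I ^ (n - d) := by
  classical
  have hdiff : ∀ n m, n ≤ m → ∑ l ∈ Finset.range m, a l - ∑ l ∈ Finset.range n, a l ∈ I ^ (n - d) := fun n m h => by
    rw [← Finset.sum_range_add_sum_Ico _ h, add_sub_cancel_left]
    exact Ideal.sum_mem _ fun l hl => Ideal.pow_le_pow_right (by simp only [Finset.mem_Ico] at hl; omega) (ha l)
  obtain ⟨L, hL⟩ := IsPrecomplete.prec (I := I) (M := A) inferInstance
    (f := fun j => ∑ l ∈ Finset.range (j + d), a l) (fun {i j} hij => by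
      rw [SModEq.sub_mem, ← neg_sub]
      refine neg_mem ?_
      rw [smul_eq_mul, Ideal.mul_top]
      simpa using hdiff (i + d) (j + d) (by omega))
  refine ⟨L, fun n => ?_⟩
  have h1 := SModEq.sub_mem.mp (hL (n - d))
  rw [smul_eq_mul, Ideal.mul_top] at h1
  by_cases hn : d ≤ n
  · rw [← neg_sub]
    simpa [Nat.sub_add_cancel hn] using neg_mem h1
  · rw [show n - d = 0 by omega, pow_zero, Ideal.one_eq_top]
    trivial

section Ring

variable {A : Type u} {B : Type v} [CommRing A] [CommRing B] {φ : A →+* B}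
  {𝓕 : FiltBl.IdealFiltration A} {𝓖 : FiltBl.IdealFiltration B} (h : IsFiltHom φ 𝓕 𝓖)

theorem map_injective (hinj : ∀ n, ∀ a ∈ 𝓕.F n, φ a ∈ 𝓖.F (n + 1) → a ∈ 𝓕.F (n + 1)) :
    Function.Injective (map h) := by
  rw [injective_iff_map_eq_zero]
  intro x hx
  obtain ⟨f, rfl⟩ := mkG_surjective 𝓕 x
  rw [map_mkG, mkG_eq_zero_iff, mem_succIdeal_iff] at hx
  rw [mkG_eq_zero_iff, mem_succIdeal_iff]
  intro n
  refine hinj n _ (f.2 n) ?_
  have := hx n
  rwa [coe_reesMap, Polynomial.coeff_map] at this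

theorem map_surjective (hsurj : ∀ n, ∀ b ∈ 𝓖.F n, ∃ a ∈ 𝓕.F n, φ a - b ∈ 𝓖.F (n + 1)) :
    Function.Surjective (map h) := by
  intro y
  obtain ⟨g, rfl⟩ := mkG_surjective 𝓖 y
  rw [← sum_term 𝓖 g, map_sum]
  choose a ha hab using fun n => hsurj n _ (g.2 n)
  refine ⟨∑ n ∈ (g : Polynomial B).support, (inDeg 𝓕 n ⟨a n, ha n⟩ : GrRing 𝓕), ?_⟩
  rw [map_sum]
  refine Finset.sum_congr rfl fun n _ => ?_
  rw [map_inDeg, mkG_term, ← sub_eq_zero, ← AddSubgroupClass.coe_sub, ← map_sub, Submodule.coe_eq_zero,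
    inDeg_eq_zero_iff]
  exact hab n

theorem exists_of_map_surjective (hs : Function.Surjective (map h)) (n : ℕ) {b : B} (hb : b ∈ 𝓖.F n) :
    ∃ a ∈ 𝓕.F n, φ a - b ∈ 𝓖.F (n + 1) := by
  obtain ⟨x, hx⟩ := hs (inDeg 𝓖 n ⟨b, hb⟩ : GrRing 𝓖)
  obtain ⟨f, rfl⟩ := mkG_surjective 𝓕 x
  rw [map_mkG, coe_inDeg, ← sub_eq_zero, ← map_sub, mkG_eq_zero_iff, mem_succIdeal_iff] at hx
  refine ⟨(f : Polynomial A).coeff n, f.2 n, ?_⟩
  have := hx n
  simpa [Polynomial.coeff_map, Polynomial.coeff_monomial] using this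

end Ring

section Mod

variable {A : Type u} [CommRing A] {I : Ideal A} {M : Type u} [AddCommGroup M] [Module A M]
  (F : I.Filtration M)

/-- The coefficient rule extracted from a relation in the associated graded module. -/
theorem exists_coeffs {ι : Type*} [Fintype ι] (d : ι → ℕ) (x : ∀ i, ↥(F.N (d i)))
    (n : ℕ) (y : ↥(F.N n))
    (hy : (inDegM F n y : GrMod F) ∈ Submodule.span (GrRing (FiltBl.IdealFiltration.adic I))
      (Set.range fun i => (inDegM F (d i) (x i) : GrMod F))) :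
    ∃ a : ι → A, (∀ i, a i ∈ I ^ (n - d i)) ∧ (∀ i, n < d i → a i = 0) ∧
      (y : M) - ∑ i, a i • (x i : M) ∈ F.N (n + 1) := by
  classical
  obtain ⟨c, hc⟩ := (Submodule.mem_span_range_iff_exists_fun _).mp hy
  choose f hf using fun i => mkG_surjective (FiltBl.IdealFiltration.adic I) (c i)
  have hcmp : ∀ i, c i • (inDegM F (d i) (x i) : GrMod F) = mkGM F (f i • monomM F (d i) (x i)) := fun i => by
    rw [← hf i, coe_inDegM, mkG_smul_mkGM]
  simp only [hcmp, ← map_sum] at hc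
  rw [coe_inDegM, eq_comm, ← sub_eq_zero, ← map_sub, mkGM_eq_zero_iff, mem_succMod_iff] at hc
  let a : ι → A := fun i => if d i ≤ n then (f i : Polynomial A).coeff (n - d i) else 0
  refine ⟨a, fun i => ?_, fun i hi => if_neg (by omega), ?_⟩
  · simp only [a]
    split_ifs
    · exact (f i).2 (n - d i)
    · exact zero_mem _
  · have h1 := hc n
    rw [sub_eq_add_neg, ReesM.coeff_add, ← ReesM.coeffHom_apply F n (-_), map_neg, map_sum] at h1
    simp only [ReesM.coeffHom_apply, ReesM.coeff_monomM, if_pos] at h1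
    rw [← sub_eq_add_neg] at h1
    convert h1 using 3 with i
    rw [ReesM.coeff_smul]
    simp only [a]
    split_ifs with hd
    · rw [Finset.sum_eq_single (n - d i, d i)]
      · rw [ReesM.coeff_monomM, if_pos rfl]
      · rintro ⟨p, q⟩ hpq hne
        rw [Finset.mem_antidiagonal] at hpq
        rw [ReesM.coeff_monomM, if_neg, smul_zero]
        rintro rfl
        exact hne (by ext <;> simp; omega)
      · exact fun h => absurd (Finset.mem_antidiagonal.mpr (Nat.sub_add_cancel hd)) h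
    · rw [zero_smul, Finset.sum_eq_zero]
      rintro ⟨p, q⟩ hpq
      rw [Finset.mem_antidiagonal] at hpq
      rw [ReesM.coeff_monomM, if_neg (by rintro rfl; omega), smul_zero]

/-- Successive approximation inside a submodule. -/
theorem le_span_of_approx [IsPrecomplete I A] (h0 : F.N 0 = ⊤) (hsep : ⨅ n, F.N n = ⊥)
    {ι : Type*} [Fintype ι] (d : ι → ℕ) (x : ∀ i, ↥(F.N (d i))) (S : Submodule A M)
    (hxS : ∀ i, (x i : M) ∈ S)
    (happ : ∀ n, ∀ y : ↥(F.N n), (y : M) ∈ S → ∃ a : ι → A, (∀ i, a i ∈ I ^ (n - d i)) ∧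
      (∀ i, n < d i → a i = 0) ∧ (y : M) - ∑ i, a i • (x i : M) ∈ F.N (n + 1)) :
    S ≤ Submodule.span A (Set.range fun i => (x i : M)) := by
  classical
  intro y hy
  have hnext : ∀ n, ∀ y : ↥(F.N n ⊓ S : Submodule A M), ∃ a : ι → A, (∀ i, a i ∈ I ^ (n - d i)) ∧
      (∀ i, n < d i → a i = 0) ∧ (y : M) - ∑ i, a i • (x i : M) ∈ F.N (n + 1) ⊓ S := fun n y => by
    obtain ⟨a, h1, h1', h2⟩ := happ n ⟨y.1, y.2.1⟩ y.2.2
    exact ⟨a, h1, h1', h2, sub_mem y.2.2 (sum_mem fun i _ => S.smul_mem _ (hxS i))⟩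
  choose a ha ha' hmem using hnext
  let r : ∀ n, ↥(F.N n ⊓ S : Submodule A M) :=
    fun n => Nat.rec (motive := fun n => ↥(F.N n ⊓ S : Submodule A M)) ⟨y, by rw [h0]; trivial, hy⟩
      (fun n z => ⟨_, hmem n z⟩) n
  choose L hL using fun i => exists_limit I (d i) (fun n => a n (r n) i) (fun n => ha n (r n) i)
  have hsum : ∀ n, (r n).1 = y - ∑ i, (∑ l ∈ Finset.range n, a l (r l) i) • (x i : M) := fun n => by
    induction n with
    | zero => simp [r]
    | succ n ih =>
      change (r n).1 - ∑ i, a n (r n) i • (x i : M) = _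
      rw [ih]
      simp only [Finset.sum_range_succ, add_smul, Finset.sum_add_distrib]
      abel
  have : y - ∑ i, L i • (x i : M) ∈ ⨅ n, F.N n := by
    rw [Submodule.mem_iInf]
    intro n
    have h1 : y - ∑ i, L i • (x i : M) = (r n).1 - ∑ i, (L i - ∑ l ∈ Finset.range n, a l (r l) i) • (x i : M) := by
      rw [hsum n]
      simp only [sub_smul, Finset.sum_sub_distrib]
      abel
    rw [h1]
    refine sub_mem (r n).2.1 (sum_mem fun i _ => ?_)
    have h2 := F.pow_smul_le (n - d i) (d i) (Submodule.smul_mem_smul (hL i n) (x i).2)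
    have hanti : Antitone F.N := antitone_nat_of_succ_le F.mono
    exact hanti (by omega : n ≤ n - d i + d i) h2
  rw [hsep, Submodule.mem_bot, sub_eq_zero] at this
  rw [this]
  exact (Submodule.mem_span_range_iff_exists_fun A).mpr ⟨L, rfl⟩

theorem inDegM_mem_span_iff_exists {ι : Type*} [Fintype ι] (d : ι → ℕ) (x : ∀ i, ↥(F.N (d i)))
    (h : Submodule.span (GrRing (FiltBl.IdealFiltration.adic I))
      (Set.range fun i => (inDegM F (d i) (x i) : GrMod F)) = ⊤) (n : ℕ) (y : ↥(F.N n)) :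
    ∃ a : ι → A, (∀ i, a i ∈ I ^ (n - d i)) ∧ (∀ i, n < d i → a i = 0) ∧
      (y : M) - ∑ i, a i • (x i : M) ∈ F.N (n + 1) :=
  exists_coeffs F d x n y (h ▸ Submodule.mem_top)

/-- A finite set of homogeneous generators of a finitely generated graded submodule. -/
theorem exists_homogeneous_generators (T : Submodule A M)
    (hfg : (Submodule.span (GrRing (FiltBl.IdealFiltration.adic I))
      {z : GrMod F | ∃ n, ∃ y : ↥(F.N n), (y : M) ∈ T ∧ (inDegM F n y : GrMod F) = z}).FG) :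
    ∃ (k : ℕ) (d : Fin k → ℕ) (x : ∀ i, ↥(F.N (d i))), (∀ i, (x i : M) ∈ T) ∧
      ∀ n, ∀ y : ↥(F.N n), (y : M) ∈ T → (inDegM F n y : GrMod F) ∈
        Submodule.span (GrRing (FiltBl.IdealFiltration.adic I)) (Set.range fun i => (inDegM F (d i) (x i) : GrMod F)) := by
  classical
  obtain ⟨t, ht, htfin, hspan⟩ := (Submodule.fg_span_iff_fg_span_finset_subset _).mp hfg |>.elim fun t h =>
    (⟨(t : Set _), h.1, t.finite_toSet, h.2⟩ : ∃ t : Set (GrMod F), t ⊆ _ ∧ t.Finite ∧ Submodule.span _ _ = Submodule.span _ t)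
  haveI := htfin.fintype
  choose n y hyT hyz using fun z : t => ht z.2
  let e := (Fintype.equivFin t).symm
  refine ⟨Fintype.card t, fun i => n (e i), fun i => y (e i), fun i => hyT _, fun m w hw => ?_⟩
  have hmem := Submodule.subset_span (R := GrRing (FiltBl.IdealFiltration.adic I))
    (s := {z : GrMod F | ∃ n, ∃ y : ↥(F.N n), (y : M) ∈ T ∧ (inDegM F n y : GrMod F) = z}) ⟨m, w, hw, rfl⟩
  rw [hspan] at hmem
  refine Submodule.span_mono ?_ hmem
  intro z hz
  refine ⟨e.symm ⟨z, hz⟩, ?_⟩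
  change (inDegM F (n (e (e.symm ⟨z, hz⟩))) (y (e (e.symm ⟨z, hz⟩))) : GrMod F) = z
  rw [hyz, Equiv.apply_symm_apply]

end Mod

end Groth.Agent.H24AdicGr
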